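import Cfsg.Agent.H27.Base2.ModelDefs

/-!
Algebra of the Pauli models: products of words, the commutation form, the adjoint of a normalising map.
-/

set_option autoImplicit false
set_option maxHeartbeats 1000000

namespace H15.BaseCert

open H27.Base2

variable {K : Type} [Field K] {tw : Bool} {k : ℕ}

local notation "E" => Module.End K (Fin (2 ^ k) → K)
local notation "eg" => gen K tw k
local notation "wd" => word K tw k

/-- Addition of bit vectors. -/
def xr {m : ℕ} (a b : Fin (2 ^ m)) : Fin (2 ^ m) := ⟨(a : ℕ) ^^^ b, Nat.xor_lt_two_pow a.2 b.2⟩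

theorem testBit_xr {m : ℕ} (a b : Fin (2 ^ m)) (i : ℕ) :
    Nat.testBit (xr a b) i = (Nat.testBit a i ^^ Nat.testBit b i) := by
  simp [xr]

theorem bits_ext {m : ℕ} {a b : Fin (2 ^ m)}
    (h : ∀ i : Fin m, Nat.testBit a i = Nat.testBit b i) : a = b := by
  refine Fin.ext (Nat.eq_of_testBit_eq fun i => ?_)
  rcases lt_or_ge i m with hi | hi
  · exact h ⟨i, hi⟩
  · rw [Nat.testBit_lt_two_pow (lt_of_lt_of_le a.2 (Nat.pow_le_pow_right two_pos hi)),
      Nat.testBit_lt_two_pow (lt_of_lt_of_le b.2 (Nat.pow_le_pow_right two_pos hi))]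

/-- The unit vector of a bit. -/
def bv {m : ℕ} (i : Fin m) : Fin (2 ^ m) :=
  ⟨2 ^ (i : ℕ), Nat.pow_lt_pow_right one_lt_two i.2⟩

/-- The zero bit vector. -/
def zv (m : ℕ) : Fin (2 ^ m) := ⟨0, Nat.two_pow_pos m⟩

theorem testBit_bv {m : ℕ} (i : Fin m) (l : ℕ) : Nat.testBit (bv i) l = decide ((i : ℕ) = l) := by
  simp [bv, Nat.testBit_two_pow]

theorem testBit_zv {m : ℕ} (l : ℕ) : Nat.testBit (zv m) l = false := by simp [zv]

theorem xr_self {m : ℕ} (a : Fin (2 ^ m)) : xr a a = zv m := Fin.ext (by simp [xr, zv])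

theorem xr_zero {m : ℕ} (a : Fin (2 ^ m)) : xr a (zv m) = a := Fin.ext (by simp [xr, zv])

theorem zero_xr {m : ℕ} (a : Fin (2 ^ m)) : xr (zv m) a = a := Fin.ext (by simp [xr, zv])

theorem xr_assoc {m : ℕ} (a b c : Fin (2 ^ m)) : xr (xr a b) c = xr a (xr b c) :=
  Fin.ext (by simp [xr, Nat.xor_assoc])

theorem xr_comm {m : ℕ} (a b : Fin (2 ^ m)) : xr a b = xr b a := Fin.ext (by simp [xr, Nat.xor_comm])

theorem xr_cancel {m : ℕ} (a b : Fin (2 ^ m)) : xr a (xr a b) = b := by
  rw [← xr_assoc, xr_self, zero_xr]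

theorem eq_of_xr {m : ℕ} {a b : Fin (2 ^ m)} (h : xr a b = zv m) : a = b := by
  rw [← xr_cancel a b, h, xr_zero]

/-- The partner of an index in its symplectic pair. -/
def partner (j : Fin (2 * k)) : Fin (2 * k) :=
  ⟨if (j : ℕ) % 2 = 0 then j + 1 else j - 1, by
    have := j.2
    split <;> omega⟩

theorem partner_partner (j : Fin (2 * k)) : partner (partner j) = j := by
  have := j.2
  apply Fin.ext
  simp only [partner]
  split_ifs <;> omega

theorem eq_partner_iff (i j : Fin (2 * k)) :
    i = partner j ↔ (i : ℕ) / 2 = (j : ℕ) / 2 ∧ i ≠ j := by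
  have := j.2
  simp only [Fin.ext_iff, partner, ne_eq]
  constructor
  · split_ifs <;> omega
  · split_ifs <;> omega

/-- The sign attached to a bit. -/
def sg (K : Type) [Field K] (b : Bool) : K := if b then -1 else 1

theorem sg_xor (a b : Bool) : sg K (a ^^ b) = sg K a * sg K b := by
  cases a <;> cases b <;> simp [sg]

theorem sg_sq (a : Bool) : sg K a * sg K a = 1 := by cases a <;> simp [sg]

theorem sg_ne (a : Bool) : sg K a ≠ 0 := by cases a <;> simp [sg]

theorem sg_inj (h2 : (2 : K) ≠ 0) {a b : Bool} (h : sg K a = sg K b) : a = b := by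
  have h1 : (-1 : K) ≠ 1 := fun h => h2 (by linear_combination -h)
  cases a <;> cases b <;> simp [sg] at h ⊢
  · exact h1 h.symm
  · exact h1 h

theorem flipBit_flipBit {i : ℕ} (hi : i < k) (b : Fin (2 ^ k)) :
    flipBit i hi (flipBit i hi b) = b := by
  apply Fin.ext
  simp [flipBit, Nat.xor_assoc]

theorem flipBit_comm {i l : ℕ} (hi : i < k) (hl : l < k) (b : Fin (2 ^ k)) :
    flipBit i hi (flipBit l hl b) = flipBit l hl (flipBit i hi b) := by
  apply Fin.ext
  simp [flipBit, Nat.xor_assoc, Nat.xor_comm (2 ^ l)]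

theorem testBit_flipBit {i : ℕ} (hi : i < k) (b : Fin (2 ^ k)) (l : ℕ) :
    Nat.testBit (flipBit i hi b) l = (Nat.testBit b l ^^ decide (i = l)) := by
  simp [flipBit, Nat.testBit_two_pow]

theorem gen_sq (h2 : (2 : K) ≠ 0) (j : Fin (2 * k)) : ∃ c : K, c ≠ 0 ∧ eg j * eg j = c • 1 := by
  have hlt : (j : ℕ) / 2 < k := Nat.div_lt_of_lt_mul j.2
  by_cases ht : (tw && (j : ℕ) / 2 == 0) = true
  · by_cases he : (j : ℕ) % 2 = 0
    · refine ⟨-1, neg_ne_zero.mpr one_ne_zero, ?_⟩
      refine LinearMap.ext fun v => funext fun b => ?_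
      cases hb : Nat.testBit b ((j : ℕ) / 2) <;>
        simp [gen, genFun, ht, he, hb, flipBit_flipBit, testBit_flipBit]
    · refine ⟨2, h2, ?_⟩
      refine LinearMap.ext fun v => funext fun b => ?_
      cases hb : Nat.testBit b ((j : ℕ) / 2) <;>
        simp [gen, genFun, ht, he, hb, flipBit_flipBit, testBit_flipBit] <;> ring
  · refine ⟨1, one_ne_zero, ?_⟩
    refine LinearMap.ext fun v => funext fun b => ?_
    cases hb : Nat.testBit b ((j : ℕ) / 2) <;> by_cases he : (j : ℕ) % 2 = 0 <;>
      simp [gen, genFun, ht, he, hb, flipBit_flipBit, testBit_flipBit]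

theorem gen_comm (i j : Fin (2 * k)) :
    eg j * eg i = sg K (decide (i = partner j)) • (eg i * eg j) := by
  have hi2 : (i : ℕ) / 2 < k := Nat.div_lt_of_lt_mul i.2
  have hj2 : (j : ℕ) / 2 < k := Nat.div_lt_of_lt_mul j.2
  rcases eq_or_ne i j with rfl | hne
  · have : i ≠ partner i := fun h => ((eq_partner_iff i i).mp h).2 rfl
    simp [this, sg]
  by_cases hd : (i : ℕ) / 2 = (j : ℕ) / 2
  · have hp : i = partner j := (eq_partner_iff i j).mpr ⟨hd, hne⟩
    rw [decide_eq_true hp]
    have hne' : (i : ℕ) ≠ j := fun h => hne (Fin.ext h)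
    refine LinearMap.ext fun v => funext fun b => ?_
    by_cases ht : (tw && (i : ℕ) / 2 == 0) = true
    · have ht' : (tw && (j : ℕ) / 2 == 0) = true := by rw [← hd]; exact ht
      rcases Nat.mod_two_eq_zero_or_one (i : ℕ) with he | he
      · have he' : (j : ℕ) % 2 = 1 := by omega
        cases hb : Nat.testBit b ((j : ℕ) / 2) <;>
          simp [gen, genFun, ht, ht', he, he', hb, hd, sg, flipBit_flipBit, testBit_flipBit] <;>
          simp_all [flipBit_flipBit, testBit_flipBit] <;> ring
      · have he' : (j : ℕ) % 2 = 0 := by omega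
        cases hb : Nat.testBit b ((j : ℕ) / 2) <;>
          simp [gen, genFun, ht, ht', he, he', hb, hd, sg, flipBit_flipBit, testBit_flipBit] <;>
          simp_all [flipBit_flipBit, testBit_flipBit] <;> ring
    · have ht' : ¬(tw && (j : ℕ) / 2 == 0) = true := by rw [← hd]; exact ht
      rcases Nat.mod_two_eq_zero_or_one (i : ℕ) with he | he
      · have he' : (j : ℕ) % 2 = 1 := by omega
        cases hb : Nat.testBit b ((j : ℕ) / 2) <;>
          simp [gen, genFun, ht, ht', he, he', hb, hd, sg, flipBit_flipBit, testBit_flipBit] <;>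
          simp_all [flipBit_flipBit, testBit_flipBit]
      · have he' : (j : ℕ) % 2 = 0 := by omega
        cases hb : Nat.testBit b ((j : ℕ) / 2) <;>
          simp [gen, genFun, ht, ht', he, he', hb, hd, sg, flipBit_flipBit, testBit_flipBit] <;>
          simp_all [flipBit_flipBit, testBit_flipBit]
  · have hp : i ≠ partner j := fun h => hd ((eq_partner_iff i j).mp h).1
    rw [decide_eq_false hp]
    refine LinearMap.ext fun v => funext fun b => ?_
    simp only [Module.End.mul_apply, LinearMap.smul_apply, Pi.smul_apply, smul_eq_mul, sg,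
      Bool.false_eq_true, if_false, one_mul, gen, LinearMap.coe_mk, AddHom.coe_mk, genFun,
      testBit_flipBit, flipBit_comm hi2 hj2, hd, Ne.symm hd, decide_false, Bool.xor_false]
    split_ifs <;> ring

/-- The product of selected generators along a list. -/
def wordL (K : Type) [Field K] (tw : Bool) (k : ℕ) (L : List (Fin (2 * k)))
    (f : Fin (2 * k) → Bool) : Module.End K (Fin (2 ^ k) → K) :=
  (L.map fun j => if f j then gen K tw k j else 1).prod

theorem word_eq (n : Fin (2 ^ (2 * k))) :
    wd n = wordL K tw k (List.finRange (2 * k)) (fun j => Nat.testBit n j) := rfl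

theorem wordL_cons (a : Fin (2 * k)) (L : List (Fin (2 * k))) (f : Fin (2 * k) → Bool) :
    wordL K tw k (a :: L) f = (if f a then eg a else 1) * wordL K tw k L f := by
  simp [wordL]

theorem wordL_congr {L : List (Fin (2 * k))} {f f' : Fin (2 * k) → Bool}
    (h : ∀ i ∈ L, f i = f' i) : wordL K tw k L f = wordL K tw k L f' := by
  unfold wordL
  congr 1
  exact List.map_congr_left fun i hi => by rw [h i hi]

theorem wordL_comm (j : Fin (2 * k)) :
    ∀ (L : List (Fin (2 * k))) (f : Fin (2 * k) → Bool), L.Nodup →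
      eg j * wordL K tw k L f =
        sg K (decide (partner j ∈ L) && f (partner j)) • (wordL K tw k L f * eg j) := by
  intro L
  induction L with
  | nil => intro f _; simp [wordL, sg]
  | cons a L ih =>
    intro f hn
    rw [List.nodup_cons] at hn
    rw [wordL_cons]
    cases hfa : f a
    · simp only [Bool.false_eq_true, if_false, one_mul]
      rw [ih f hn.2]
      congr 2
      by_cases hpa : partner j = a
      · simp [hpa, hfa]
      · simp [hpa]
    · simp only [if_true]
      rw [← mul_assoc, gen_comm a j, smul_mul_assoc, mul_assoc, ih f hn.2, mul_smul_comm, smul_smul,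
        ← sg_xor, ← mul_assoc]
      congr 2
      by_cases hpa : partner j = a
      · simp [hpa, hfa, hn.1]
      · simp [hpa, Ne.symm hpa]

theorem gen_mul_word (j : Fin (2 * k)) (n : Fin (2 ^ (2 * k))) :
    eg j * wd n = sg K (Nat.testBit n (partner j)) • (wd n * eg j) := by
  rw [word_eq, wordL_comm j _ _ (List.nodup_finRange _)]
  simp

theorem wordL_mul_gen (h2 : (2 : K) ≠ 0) (j : Fin (2 * k)) :
    ∀ (L : List (Fin (2 * k))) (f : Fin (2 * k) → Bool), L.Nodup → j ∈ L →
      ∃ c : K, c ≠ 0 ∧
        wordL K tw k L f * eg j = c • wordL K tw k L (Function.update f j (!f j)) := by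
  intro L
  induction L with
  | nil => intro f _ hj; simp at hj
  | cons a L ih =>
    intro f hn hj
    rw [List.nodup_cons] at hn
    rw [wordL_cons, wordL_cons]
    by_cases haj : a = j
    · subst haj
      have hc : wordL K tw k L (Function.update f a (!f a)) = wordL K tw k L f :=
        wordL_congr fun i hi => by
          rw [Function.update_of_ne]
          exact fun h => hn.1 (h ▸ hi)
      rw [hc, Function.update_self, mul_assoc]
      have hw : wordL K tw k L f * eg a =
          sg K (decide (partner a ∈ L) && f (partner a)) • (eg a * wordL K tw k L f) := by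
        rw [wordL_comm a L f hn.2, smul_smul, sg_sq, one_smul]
      rw [hw, mul_smul_comm, ← mul_assoc]
      cases hfa : f a
      · exact ⟨_, sg_ne (K := K) (decide (partner a ∈ L) && f (partner a)), by simp⟩
      · obtain ⟨c, hc0, hsq⟩ := gen_sq (K := K) (tw := tw) h2 a
        refine ⟨sg K (decide (partner a ∈ L) && f (partner a)) * c, mul_ne_zero (sg_ne _) hc0, ?_⟩
        simp [hsq, smul_smul]
    · have hjL : j ∈ L := by
        rcases List.mem_cons.mp hj with h | h
        · exact absurd h.symm haj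
        · exact h
      obtain ⟨c, hc0, hc⟩ := ih f hn.2 hjL
      refine ⟨c, hc0, ?_⟩
      rw [mul_assoc, hc, mul_smul_comm, Function.update_of_ne haj]

theorem word_mul_gen (h2 : (2 : K) ≠ 0) (n : Fin (2 ^ (2 * k))) (j : Fin (2 * k)) :
    ∃ c : K, c ≠ 0 ∧ wd n * eg j = c • wd (xr n (bv j)) := by
  obtain ⟨c, hc0, hc⟩ := wordL_mul_gen (K := K) (tw := tw) h2 j (List.finRange (2 * k))
    (fun i => Nat.testBit n i) (List.nodup_finRange _) (List.mem_finRange j)
  refine ⟨c, hc0, ?_⟩
  rw [word_eq, hc, word_eq]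
  congr 1
  refine wordL_congr fun i _ => ?_
  rcases eq_or_ne i j with rfl | h
  · simp [testBit_xr, testBit_bv]
  · have : (j : ℕ) ≠ i := fun e => h (Fin.ext e.symm)
    simp [Function.update_of_ne h, testBit_xr, testBit_bv, this]

theorem word_zero : wd (zv (2 * k)) = 1 := by
  rw [word_eq]
  refine List.prod_eq_one fun x hx => ?_
  obtain ⟨j, _, rfl⟩ := List.mem_map.mp hx
  simp [testBit_zv]

/-- The bit vector selected along a list. -/
def xorL {m : ℕ} : List (Fin m) → (Fin m → Bool) → Fin (2 ^ m)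
  | [], _ => zv m
  | a :: L, f => xr (if f a then bv a else zv m) (xorL L f)

theorem testBit_xorL {m : ℕ} (f : Fin m → Bool) (i : Fin m) :
    ∀ L : List (Fin m), L.Nodup → Nat.testBit (xorL L f) i = (decide (i ∈ L) && f i) := by
  intro L
  induction L with
  | nil => intro _; simp [xorL, testBit_zv]
  | cons a L ih =>
    intro hn
    rw [List.nodup_cons] at hn
    rw [xorL, testBit_xr, ih hn.2]
    rcases eq_or_ne a i with rfl | h
    · cases hfa : f a <;> simp [testBit_bv, testBit_zv, hfa, hn.1]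
    · have : (a : ℕ) ≠ i := fun e => h (Fin.ext e)
      cases hfa : f a <;> simp [testBit_bv, testBit_zv, this, Ne.symm h]

theorem xorL_finRange {m : ℕ} (n : Fin (2 ^ m)) :
    xorL (List.finRange m) (fun i => Nat.testBit n i) = n :=
  bits_ext fun i => by rw [testBit_xorL _ _ _ (List.nodup_finRange _)]; simp

theorem word_mul_wordL (h2 : (2 : K) ≠ 0) (f : Fin (2 * k) → Bool) :
    ∀ (L : List (Fin (2 * k))) (n : Fin (2 ^ (2 * k))),
      ∃ c : K, c ≠ 0 ∧ wd n * wordL K tw k L f = c • wd (xr n (xorL L f)) := by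
  intro L
  induction L with
  | nil => intro n; exact ⟨1, one_ne_zero, by simp [wordL, xorL, xr_zero]⟩
  | cons a L ih =>
    intro n
    rw [wordL_cons, xorL]
    cases hfa : f a
    · simp only [Bool.false_eq_true, if_false, one_mul, zero_xr]
      exact ih n
    · simp only [if_true]
      obtain ⟨c, hc0, hc⟩ := word_mul_gen (K := K) (tw := tw) h2 n a
      obtain ⟨d, hd0, hd⟩ := ih (xr n (bv a))
      exact ⟨c * d, mul_ne_zero hc0 hd0, by
        rw [← mul_assoc, hc, smul_mul_assoc, hd, smul_smul, xr_assoc]⟩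

theorem word_mul (h2 : (2 : K) ≠ 0) (n m : Fin (2 ^ (2 * k))) :
    ∃ c : K, c ≠ 0 ∧ wd n * wd m = c • wd (xr n m) := by
  have h := word_mul_wordL (K := K) (tw := tw) h2 (fun i => Nat.testBit m i) (List.finRange (2 * k)) n
  rw [xorL_finRange] at h
  exact h

theorem word_sq (h2 : (2 : K) ≠ 0) (n : Fin (2 ^ (2 * k))) :
    ∃ c : K, c ≠ 0 ∧ wd n * wd n = c • 1 := by
  obtain ⟨c, hc0, hc⟩ := word_mul (K := K) (tw := tw) h2 n n
  exact ⟨c, hc0, by rw [hc, xr_self, word_zero]⟩

theorem word_cancel_left (h2 : (2 : K) ≠ 0) (n : Fin (2 ^ (2 * k))) {A B : E}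
    (h : wd n * A = wd n * B) : A = B := by
  obtain ⟨c, hc0, hc⟩ := word_sq (K := K) (tw := tw) h2 n
  have := congrArg (fun C => c⁻¹ • (wd n * C)) h
  simpa [← mul_assoc, hc, smul_smul, inv_mul_cancel₀ hc0] using this

theorem word_ne_zero (h2 : (2 : K) ≠ 0) (n : Fin (2 ^ (2 * k))) : wd n ≠ 0 := by
  intro h
  exact one_ne_zero (α := E) (word_cancel_left (tw := tw) h2 n (by rw [h]; simp))

theorem word_smul_inj (h2 : (2 : K) ≠ 0) {c : K} {a b : Fin (2 ^ (2 * k))}
    (h : wd b = c • wd a) : a = b := by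
  obtain ⟨d, hd0, hd⟩ := word_mul (K := K) (tw := tw) h2 a b
  obtain ⟨e, _, he⟩ := word_sq (K := K) (tw := tw) h2 a
  have hm : wd (xr a b) = (d⁻¹ * (c * e)) • 1 := by
    have : wd (xr a b) = d⁻¹ • (wd a * wd b) := by
      rw [hd, smul_smul, inv_mul_cancel₀ hd0, one_smul]
    rw [this, h, mul_smul_comm, he, smul_smul, smul_smul, mul_assoc]
  refine eq_of_xr (bits_ext fun i => ?_)
  rw [testBit_zv]
  have hcm := gen_mul_word (K := K) (tw := tw) (partner i) (xr a b)
  rw [partner_partner] at hcm
  by_contra hb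
  rw [Bool.not_eq_false] at hb
  have hne : wd (xr a b) * eg (partner i) ≠ 0 := by
    intro h0
    obtain ⟨f, hf0, hf⟩ := gen_sq (K := K) (tw := tw) h2 (partner i)
    have h1 := congrArg (fun C : E => C * eg (partner i)) h0
    simp [mul_assoc, hf, hf0, word_ne_zero h2] at h1
  have hsame : eg (partner i) * wd (xr a b) = wd (xr a b) * eg (partner i) := by
    rw [hm, mul_smul_comm, smul_mul_assoc, mul_one, one_mul]
  rw [hsame, hb] at hcm
  have h2' : (2 : K) • (wd (xr a b) * eg (partner i)) = 0 := by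
    rw [two_smul]
    nth_rewrite 1 [hcm]
    rw [sg, if_pos rfl]
    module
  exact hne ((smul_eq_zero.mp h2').resolve_left h2)

/-- The commutation form. -/
def betaB (k : ℕ) (a b : ℕ) : Bool :=
  (List.range (2 * k)).foldr
    (fun j acc => (Nat.testBit b j && Nat.testBit a (if j % 2 = 0 then j + 1 else j - 1)) ^^ acc) false

theorem range_eq_map (m : ℕ) : List.range m = (List.finRange m).map Fin.val := by
  apply List.ext_getElem <;> simp

theorem wordL_word (a : Fin (2 ^ (2 * k))) (f : Fin (2 * k) → Bool) :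
    ∀ L : List (Fin (2 * k)), wordL K tw k L f * wd a =
      sg K (L.foldr (fun j acc => (f j && Nat.testBit a (partner j)) ^^ acc) false) •
        (wd a * wordL K tw k L f) := by
  intro L
  induction L with
  | nil => simp [wordL, sg]
  | cons j L ih =>
    rw [wordL_cons, List.foldr_cons, sg_xor]
    cases hf : f j
    · simp [sg, ih]
    · simp only [if_true, Bool.true_and]
      rw [mul_assoc, ih, mul_smul_comm, ← mul_assoc, gen_mul_word, smul_mul_assoc, smul_smul,
        mul_comm, mul_assoc]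

theorem word_comm (a b : Fin (2 ^ (2 * k))) :
    wd b * wd a = sg K (betaB k a b) • (wd a * wd b) := by
  rw [word_eq b, wordL_word a _ (List.finRange (2 * k))]
  congr 2
  unfold betaB
  rw [range_eq_map, List.foldr_map]
  rfl

end H15.BaseCert
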