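import Cfsg.Agent.H15.BaseCert.Norm

/-!
A checker, on natural numbers, for pairs of vectors with trivial stabiliser in the normaliser of a
Pauli model.
-/

set_option autoImplicit false
set_option maxHeartbeats 1000000

namespace H15.BaseCert

open H27.Base2

/-- A coordinate of an encoded vector. -/
def getC (V b : ℕ) : ℕ := (V >>> (4 * b)) % 16

/-- The encoding of a vector. -/
def enc (f : ℕ → ℕ) : ℕ → ℕ
  | 0 => 0
  | m + 1 => (f m <<< (4 * m)) + enc f m

/-- A generator on encoded vectors. -/
def genN (p : ℕ) (tw : Bool) (k j V : ℕ) : ℕ :=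
  enc (fun b =>
    let w := getC V (b ^^^ 2 ^ (j / 2))
    if j % 2 = 0 then
      if tw && j / 2 == 0 then (if Nat.testBit b (j / 2) then w % p else ((p - 1) * w) % p) else w % p
    else
      if tw && j / 2 == 0 then
        (if Nat.testBit b (j / 2) then (w + (p - 1) * getC V b) % p else (getC V b + w) % p)
      else (if Nat.testBit b (j / 2) then ((p - 1) * getC V b) % p else getC V b % p)) (2 ^ k)

/-- An entry of a table of encoded vectors. -/
def getI (L : List (List ℕ)) (n : ℕ) : ℕ := (L.getD (n / 16) []).getD (n % 16) 0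

/-- An entry of a packed table. -/
def getK (R n : ℕ) : ℕ := (R >>> (16 * n)) % 65536

/-- The lowest bit. -/
def lowB : ℕ → ℕ → ℕ → ℕ
  | 0, j, _ => j
  | f + 1, j, n => if Nat.testBit n j then j else lowB f (j + 1) n

/-- The table `L` lists the images of `X` under all words. -/
def imgOK (p : ℕ) (tw : Bool) (k X : ℕ) (L : List (List ℕ)) : Bool :=
  getI L 0 == X && (List.range (2 ^ (2 * k))).all fun n =>
    n == 0 ||
      (Nat.testBit n (lowB (2 * k) 0 n) && decide (lowB (2 * k) 0 n < 2 * k) &&
        n % 2 ^ lowB (2 * k) 0 n == 0 &&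
        genN p tw k (lowB (2 * k) 0 n) (getI L (n ^^^ 2 ^ lowB (2 * k) 0 n)) == getI L n)

/-- A sum of products of coordinates. -/
def dotS (U W : ℕ) : ℕ → ℕ
  | 0 => 0
  | m + 1 => dotS U W m + getC U m * getC W m

/-- A dot product. -/
def dotN (p k U W : ℕ) : ℕ := dotS U W (2 ^ k) % p

/-- The code of a quadruple. -/
def code4 (p a b c d : ℕ) : ℕ := a + p * (b + p * (c + p * d))

/-- A quadruple code multiplied by a scalar. -/
def scaleC (p e C : ℕ) : ℕ :=
  code4 p (e * (C % p) % p) (e * (C / p % p) % p) (e * (C / p / p % p) % p) (e * (C / p / p / p) % p)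

/-- The table of class names is invariant under scalars. -/
def tabOK (p TAB : ℕ) : Bool :=
  (List.range (p * (p * (p * p)))).all fun C => (List.range p).all fun e =>
    e == 0 || getK TAB (scaleC p e C) == getK TAB C

/-- The table of fingerprints is correct. -/
def keyOK (p k X Y : ℕ) (LX LY : List (List ℕ)) (TAB KEY : ℕ) : Bool :=
  (List.range (2 ^ (2 * k))).all fun n =>
    getK TAB (code4 p (dotN p k X (getI LX n)) (dotN p k X (getI LY n))
      (dotN p k Y (getI LY n)) (dotN p k Y (getI LX n))) == getK KEY n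

/-- The pruning test. -/
def okPair (k KEY b c : ℕ) : List (ℕ × ℕ) → Bool
  | [] => true
  | bc :: L => (L.all fun bd =>
      getK KEY (c ^^^ bc.2 ^^^ bd.2) == getK KEY (b ^^^ bc.1 ^^^ bd.1) &&
        betaB k (c ^^^ bc.2) (c ^^^ bd.2) == betaB k (b ^^^ bc.1) (b ^^^ bd.1)) && okPair k KEY b c L

/-- The search over images of an affine basis. -/
def search (k KEY : ℕ) (fin : List (ℕ × ℕ) → Bool) : List (ℕ × List ℕ) → List (ℕ × ℕ) → Bool
  | [], done => fin done
  | bcs :: t, done => bcs.2.all fun c =>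
      !okPair k KEY bcs.1 c done || search k KEY fin t ((bcs.1, c) :: done)

/-- The candidate lists are complete. -/
def candOK (k KEY : ℕ) (cands : List (ℕ × List ℕ)) : Bool :=
  cands.all fun bcs => decide (bcs.1 < 2 ^ (2 * k)) && (List.range (2 ^ (2 * k))).all fun n =>
    !(getK KEY n == getK KEY bcs.1) || bcs.2.contains n

/-- Lookup in a list of assignments. -/
def look : List (ℕ × ℕ) → ℕ → ℕ
  | [], _ => 0
  | bc :: L, b => if bc.1 == b then bc.2 else look L b

/-- The linear part on a unit vector. -/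
def sigImg (comb : List (List (ℕ × ℕ))) (done : List (ℕ × ℕ)) (j : ℕ) : ℕ :=
  (comb.getD j []).foldr (fun q acc => look done q.1 ^^^ look done q.2 ^^^ acc) 0

/-- The unit vectors are sums of differences of the basis. -/
def combOK (k : ℕ) (cands : List (ℕ × List ℕ)) (comb : List (List (ℕ × ℕ))) : Bool :=
  (List.range (2 * k)).all fun j =>
    (comb.getD j []).foldr (fun q acc => q.1 ^^^ q.2 ^^^ acc) 0 == 2 ^ j &&
      (comb.getD j []).all fun q => (cands.map Prod.fst).contains q.1 && (cands.map Prod.fst).contains q.2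

/-- Trivial linear part. -/
def finId (k : ℕ) (comb : List (List (ℕ × ℕ))) (done : List (ℕ × ℕ)) : Bool :=
  (List.range (2 * k)).all fun j => sigImg comb done j == 2 ^ j

/-- The linear part. -/
def sigN (k : ℕ) (comb : List (List (ℕ × ℕ))) (done : List (ℕ × ℕ)) (n : ℕ) : ℕ :=
  (List.range (2 * k)).foldr (fun j acc => (if Nat.testBit n j then sigImg comb done j else 0) ^^^ acc) 0

/-- Linear part trivial, or an involution with sixteen fixed words. -/
def finInvol (k : ℕ) (comb : List (List (ℕ × ℕ))) (done : List (ℕ × ℕ)) : Bool :=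
  finId k comb done ||
    (((List.range (2 * k)).all fun j => sigN k comb done (sigImg comb done j) == 2 ^ j) &&
      ((List.range (2 ^ (2 * k))).filter fun n => sigN k comb done n == n).length == 16)

/-- Only the identity among the scalar words fixes both vectors. -/
def fixOK (p k X Y : ℕ) (LX LY : List (List ℕ)) : Bool :=
  (List.range (2 ^ (2 * k))).all fun n => (List.range p).all fun e =>
    e == 0 || (n == 0 && e == 1) ||
      !((List.range (2 ^ k)).all fun b => e * getC (getI LX n) b % p == getC X b % p) ||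
      !((List.range (2 ^ k)).all fun b => e * getC (getI LY n) b % p == getC Y b % p)

section sound

variable {K : Type} [Field K] {p : ℕ} {tw : Bool} {k : ℕ}

/-- The vector with a given encoding. -/
def toV (K : Type) [Field K] (k V : ℕ) : Fin (2 ^ k) → K := fun b => (getC V b : K)

theorem enc_lt {f : ℕ → ℕ} (hf : ∀ i, f i < 16) : ∀ m, enc f m < 2 ^ (4 * m)
  | 0 => by simp [enc]
  | m + 1 => by
    have := enc_lt hf m
    have h := hf m
    rw [enc, Nat.shiftLeft_eq, mul_add, pow_add]
    have h' : f m * 2 ^ (4 * m) + 2 ^ (4 * m) ≤ 16 * 2 ^ (4 * m) := by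
      calc f m * 2 ^ (4 * m) + 2 ^ (4 * m) = (f m + 1) * 2 ^ (4 * m) := by ring
        _ ≤ 16 * 2 ^ (4 * m) := Nat.mul_le_mul_right _ h
    norm_num
    omega

theorem getC_enc {f : ℕ → ℕ} (hf : ∀ i, f i < 16) :
    ∀ m b, b < m → getC (enc f m) b = f b := by
  intro m
  induction m with
  | zero => intro b hb; omega
  | succ m ih =>
    intro b hb
    have hlt := enc_lt hf m
    unfold getC
    rw [enc, Nat.shiftRight_eq_div_pow, Nat.shiftLeft_eq]
    rcases Nat.lt_succ_iff_lt_or_eq.mp hb with h | h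
    · have e : 2 ^ (4 * m) = 2 ^ (4 * b) * (16 * 2 ^ (4 * (m - b - 1))) := by
        rw [show (16 : ℕ) = 2 ^ 4 from rfl, ← pow_add, ← pow_add]
        congr 1
        omega
      have := ih b h
      unfold getC at this
      rw [Nat.shiftRight_eq_div_pow] at this
      rw [e, show f m * (2 ^ (4 * b) * (16 * 2 ^ (4 * (m - b - 1)))) + enc f m =
        enc f m + 2 ^ (4 * b) * (f m * 2 ^ (4 * (m - b - 1)) * 16) by ring,
        Nat.add_mul_div_left _ _ (Nat.two_pow_pos _), Nat.add_mul_mod_self_right, this]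
    · subst h
      rw [Nat.mul_comm (f b), Nat.mul_add_div (Nat.two_pow_pos _), Nat.div_eq_of_lt hlt, add_zero,
        Nat.mod_eq_of_lt (hf b)]

theorem cast_pred [CharP K p] (hp : 0 < p) : ((p - 1 : ℕ) : K) = -1 := by
  rw [Nat.cast_sub hp, CharP.cast_eq_zero, Nat.cast_one, zero_sub]

theorem cast_mod [CharP K p] (a : ℕ) : ((a % p : ℕ) : K) = (a : K) :=
  (CharP.natCast_eq_natCast K p).mpr (Nat.mod_modEq a p)

theorem gen_toV [CharP K p] (hp : 0 < p) (hp16 : p ≤ 16) (j : Fin (2 * k)) (V : ℕ) :
    gen K tw k j (toV K k V) = toV K k (genN p tw k j V) := by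
  funext b
  have hb : ∀ a : ℕ, a % p < 16 := fun a => lt_of_lt_of_le (Nat.mod_lt _ hp) hp16
  simp only [toV, genN]
  rw [getC_enc (fun i => by split_ifs <;> exact hb _) _ _ b.2]
  simp only [gen, LinearMap.coe_mk, AddHom.coe_mk, genFun, toV, flipBit]
  split_ifs <;>
    simp [cast_mod, cast_pred (K := K) hp, Nat.cast_mul, Nat.cast_add] <;> ring

theorem wordL_low (j : Fin (2 * k)) :
    ∀ (L : List (Fin (2 * k))) (f : Fin (2 * k) → Bool), L.Pairwise (· < ·) → j ∈ L →
      (∀ i, i < j → f i = false) → f j = true →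
      wordL K tw k L f = gen K tw k j * wordL K tw k L (Function.update f j false) := by
  intro L
  induction L with
  | nil => intro f _ hj; simp at hj
  | cons a L ih =>
    intro f hn hj hlo hfj
    rw [List.pairwise_cons] at hn
    rw [wordL_cons, wordL_cons]
    rcases eq_or_ne a j with rfl | h
    · have hc : wordL K tw k L (Function.update f a false) = wordL K tw k L f :=
        wordL_congr fun i hi => Function.update_of_ne (ne_of_gt (hn.1 i hi)) _ _
      simp [hfj, hc]
    · rcases List.mem_cons.mp hj with h' | h'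
      · exact absurd h'.symm h
      · rw [Function.update_of_ne h, hlo a (hn.1 j h')]
        simp only [Bool.false_eq_true, if_false, one_mul]
        exact ih f hn.2 h' hlo hfj

theorem word_toV [CharP K p] (hp : 0 < p) (hp16 : p ≤ 16) {X : ℕ} {L : List (List ℕ)}
    (h : imgOK p tw k X L = true) (n : Fin (2 ^ (2 * k))) :
    word K tw k n (toV K k X) = toV K k (getI L n) := by
  simp only [imgOK, Bool.and_eq_true, beq_iff_eq, List.all_eq_true, List.mem_range,
    Bool.or_eq_true, decide_eq_true_eq] at h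
  obtain ⟨h0, hs⟩ := h
  suffices ∀ m, ∀ n : Fin (2 ^ (2 * k)), (n : ℕ) = m →
      word K tw k n (toV K k X) = toV K k (getI L n) from this _ n rfl
  intro m
  induction m using Nat.strong_induction_on with
  | _ m ih =>
    intro n hn
    rcases eq_or_ne m 0 with hm | hm
    · have : n = zv (2 * k) := Fin.ext (by simp [zv, hn, hm])
      rw [this, word_zero]
      simp [zv, h0]
    · rcases hs n n.2 with h' | ⟨⟨⟨hbit, hlt⟩, hlow⟩, hgen⟩
      · omega
      · set j : Fin (2 * k) := ⟨lowB (2 * k) 0 n, hlt⟩ with hj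
        have hlo : ∀ i : Fin (2 * k), i < j → Nat.testBit n i = false := fun i hi => by
          have hmod := Nat.testBit_mod_two_pow (n : ℕ) (lowB (2 * k) 0 n) i
          rw [hlow, Nat.zero_testBit] at hmod
          have : (i : ℕ) < lowB (2 * k) 0 n := hi
          simpa [this] using hmod.symm
        rw [word_eq, wordL_low j _ _ (List.pairwise_lt_finRange _) (List.mem_finRange j) hlo hbit,
          wordL_congr (f' := fun i => Nat.testBit (xr n (bv j)) i) (fun i _ => by
            rcases eq_or_ne i j with rfl | hne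
            · simp [testBit_xr, testBit_bv, show Nat.testBit (n : ℕ) (lowB (2 * k) 0 n) = true from hbit, hj]
            · have : (j : ℕ) ≠ i := fun e => hne (Fin.ext e.symm)
              simp [Function.update_of_ne hne, testBit_xr, testBit_bv, this]),
          ← word_eq, Module.End.mul_apply, ih _ ?_ _ rfl, gen_toV hp hp16]
        · exact congrArg _ hgen
        · rw [← hn]
          simp only [xr, bv]
          refine Nat.lt_of_testBit (lowB (2 * k) 0 n) ?_ hbit ?_
          · simp [hbit, Nat.testBit_two_pow, hj]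
          · intro i hi
            simp [Nat.testBit_two_pow, hi.ne, hj]

theorem dot_toV [CharP K p] (U W : ℕ) :
    dot (toV K k U) (toV K k W) = (dotN p k U W : K) := by
  rw [dotN, cast_mod]
  have : ∀ m, (dotS U W m : K) = ∑ b ∈ Finset.range m, (getC U b : K) * (getC W b : K) := by
    intro m
    induction m with
    | zero => simp [dotS]
    | succ m ih => rw [dotS, Nat.cast_add, Nat.cast_mul, ih, Finset.sum_range_succ]
  rw [this, Finset.sum_range]
  rfl

theorem eq_of_cast [CharP K p] {a b : ℕ} (ha : a < p) (hb : b < p) (h : (a : K) = (b : K)) :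
    a = b := by
  have := (CharP.natCast_eq_natCast K p).mp h
  exact this.eq_of_lt_of_lt ha hb

theorem code4_digits {p a b c d : ℕ} (ha : a < p) (hb : b < p) (hc : c < p) (hd : d < p) :
    code4 p a b c d % p = a ∧ code4 p a b c d / p % p = b ∧ code4 p a b c d / p / p % p = c ∧
      code4 p a b c d / p / p / p = d ∧ code4 p a b c d < p * (p * (p * p)) := by
  have hp : 0 < p := by omega
  unfold code4
  have e1 : (a + p * (b + p * (c + p * d))) / p = b + p * (c + p * d) := by
    rw [Nat.add_mul_div_left _ _ hp, Nat.div_eq_of_lt ha, zero_add]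
  have e2 : (b + p * (c + p * d)) / p = c + p * d := by
    rw [Nat.add_mul_div_left _ _ hp, Nat.div_eq_of_lt hb, zero_add]
  have e3 : (c + p * d) / p = d := by
    rw [Nat.add_mul_div_left _ _ hp, Nat.div_eq_of_lt hc, zero_add]
  rw [e1, e2, e3, Nat.add_mul_mod_self_left, Nat.add_mul_mod_self_left, Nat.add_mul_mod_self_left]
  refine ⟨Nat.mod_eq_of_lt ha, Nat.mod_eq_of_lt hb, Nat.mod_eq_of_lt hc, rfl, ?_⟩
  have h3 : c + p * d < p * p := by nlinarith
  have h2 : b + p * (c + p * d) < p * (p * p) := by nlinarith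
  nlinarith

/-- The fingerprint of a word. -/
def keyAt (KEY : ℕ) (n : Fin (2 ^ (2 * k))) : ℕ := getK KEY n

theorem key_eq_of_quad [CharP K p] (hp : p.Prime) (hp16 : p ≤ 16)
    (hsurj : ∀ e : K, ∃ a, a < p ∧ e = (a : K)) {X Y : ℕ} {LX LY : List (List ℕ)} {TAB KEY : ℕ}
    (hX : imgOK p tw k X LX = true) (hY : imgOK p tw k Y LY = true) (hT : tabOK p TAB = true)
    (hKEY : keyOK p k X Y LX LY TAB KEY = true) {m n : Fin (2 ^ (2 * k))} {e : K} (he : e ≠ 0)
    (h : quad K tw k (toV K k X) (toV K k Y) m = e • quad K tw k (toV K k X) (toV K k Y) n) :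
    getK KEY m = getK KEY n := by
  simp only [keyOK, List.all_eq_true, List.mem_range, beq_iff_eq] at hKEY
  simp only [tabOK, List.all_eq_true, List.mem_range, Bool.or_eq_true, beq_iff_eq] at hT
  obtain ⟨a, ha, rfl⟩ := hsurj e
  have hlt : ∀ U W, dotN p k U W < p := fun U W => Nat.mod_lt _ hp.pos
  simp only [quad, word_toV hp.pos hp16 hX, word_toV hp.pos hp16 hY, dot_toV (p := p),
    Prod.smul_mk, smul_eq_mul, Prod.mk.injEq, ← Nat.cast_mul] at h
  have conv : ∀ {u v : ℕ}, u < p → ((u : ℕ) : K) = ((a * v : ℕ) : K) → u = a * v % p :=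
    fun hu h => eq_of_cast (K := K) hu (Nat.mod_lt _ hp.pos) (by rw [cast_mod]; exact h)
  obtain ⟨h1, h2, h3, h4⟩ := h
  rw [← hKEY m m.2, ← hKEY n n.2, conv (hlt _ _) h1, conv (hlt _ _) h2, conv (hlt _ _) h3,
    conv (hlt _ _) h4]
  obtain ⟨d1, d2, d3, d4, d5⟩ := code4_digits (hlt X (getI LX n)) (hlt X (getI LY n))
    (hlt Y (getI LY n)) (hlt Y (getI LX n))
  rcases hT _ d5 a ha with h0 | h0
  · exact absurd (by simp [h0]) he
  · rw [← h0, scaleC, d1, d2, d3, d4]

theorem search_sound {KEY : ℕ} {fin : List (ℕ × ℕ) → Bool} (τ : ℕ → ℕ)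
    (hkey : ∀ m, m < 2 ^ (2 * k) → τ m < 2 ^ (2 * k) ∧ getK KEY (τ m) = getK KEY m)
    (htri : ∀ a b c, a < 2 ^ (2 * k) → b < 2 ^ (2 * k) → c < 2 ^ (2 * k) →
      τ (a ^^^ b ^^^ c) = τ a ^^^ τ b ^^^ τ c)
    (hbeta : ∀ a b c, a < 2 ^ (2 * k) → b < 2 ^ (2 * k) → c < 2 ^ (2 * k) →
      betaB k (τ a ^^^ τ b) (τ a ^^^ τ c) = betaB k (a ^^^ b) (a ^^^ c)) :
    ∀ (todo : List (ℕ × List ℕ)) (done : List (ℕ × ℕ)), candOK k KEY todo = true →
      (∀ q ∈ done, q.1 < 2 ^ (2 * k) ∧ q.2 = τ q.1) → search k KEY fin todo done = true →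
      ∃ final, fin final = true ∧ (∀ q ∈ final, q.2 = τ q.1) ∧
        ∀ b, b ∈ done.map Prod.fst ∨ b ∈ todo.map Prod.fst → b ∈ final.map Prod.fst := by
  intro todo
  induction todo with
  | nil => intro done _ hd hs; exact ⟨done, hs, fun q hq => (hd q hq).2, fun b hb => by simpa using hb⟩
  | cons bcs t ih =>
    intro done hc hd hs
    simp only [candOK, List.all_cons, Bool.and_eq_true, decide_eq_true_eq, List.all_eq_true,
      List.mem_range, Bool.or_eq_true, Bool.not_eq_true', List.contains_iff_mem, beq_eq_false_iff_ne]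
      at hc
    obtain ⟨⟨hb, hall⟩, hct⟩ := hc
    have hok : ∀ D : List (ℕ × ℕ), (∀ q ∈ D, q.1 < 2 ^ (2 * k) ∧ q.2 = τ q.1) →
        okPair k KEY bcs.1 (τ bcs.1) D = true := by
      intro D
      induction D with
      | nil => intro _; rfl
      | cons q D ihD =>
        intro hD
        rw [okPair, Bool.and_eq_true, List.all_eq_true]
        refine ⟨fun r hr => ?_, ihD fun r hr => hD r (List.mem_cons_of_mem _ hr)⟩
        obtain ⟨hq1, hq2⟩ := hD q List.mem_cons_self
        obtain ⟨hr1, hr2⟩ := hD r (List.mem_cons_of_mem _ hr)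
        rw [hq2, hr2, ← htri _ _ _ hb hq1 hr1,
          (hkey _ (Nat.xor_lt_two_pow (Nat.xor_lt_two_pow hb hq1) hr1)).2, hbeta _ _ _ hb hq1 hr1]
        simp
    have hmem : τ bcs.1 ∈ bcs.2 := by
      rcases hall _ (hkey _ hb).1 with h | h
      · exact absurd (hkey _ hb).2 h
      · exact h
    rw [search, List.all_eq_true] at hs
    have := hs _ hmem
    rw [hok done hd] at this
    simp only [Bool.not_true, Bool.false_or] at this
    obtain ⟨final, h1, h2, h3⟩ := ih ((bcs.1, τ bcs.1) :: done)
      (by simpa [candOK, List.all_eq_true, List.contains_iff_mem] using hct) (fun q hq => by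
        rcases List.mem_cons.mp hq with rfl | h
        · exact ⟨hb, rfl⟩
        · exact hd q h) this
    refine ⟨final, h1, h2, fun b hb' => h3 b ?_⟩
    simp only [List.map_cons, List.mem_cons] at hb' ⊢
    tauto

theorem look_eq {τ : ℕ → ℕ} : ∀ {D : List (ℕ × ℕ)}, (∀ q ∈ D, q.2 = τ q.1) →
    ∀ {b : ℕ}, b ∈ D.map Prod.fst → look D b = τ b
  | [], _, _, h => by simp at h
  | q :: D, hD, b, h => by
    rw [look]
    by_cases e : q.1 = b
    · subst e; simp [hD q List.mem_cons_self]
    · simp only [beq_iff_eq, e, if_false]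
      refine look_eq (fun r hr => hD r (List.mem_cons_of_mem _ hr)) ?_
      rcases List.mem_cons.mp (by simpa using h : b ∈ q.1 :: D.map Prod.fst) with h' | h'
      · exact absurd h'.symm e
      · exact h'

end sound

end H15.BaseCert
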