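import Cfsg.Agent.H15.BaseCert.Fast

/-!
From a checked certificate to a pair of vectors with trivial, respectively tiny, stabiliser.
-/

set_option autoImplicit false
set_option maxHeartbeats 1000000

namespace H15.BaseCert

open H27.Base2

variable {K : Type} [Field K] {p : ℕ} {tw : Bool} {k : ℕ}

/-- A checked certificate for the pair `X`, `Y`. -/
structure Good (p : ℕ) (tw : Bool) (k X Y : ℕ) (fin : List (List (ℕ × ℕ)) → List (ℕ × ℕ) → Bool) :
    Prop where
  cert : ∃ (LX LY : List (List ℕ)) (TAB KEY : ℕ) (cands : List (ℕ × List ℕ))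
    (comb : List (List (ℕ × ℕ))),
    imgOK p tw k X LX = true ∧ imgOK p tw k Y LY = true ∧ tabOK p TAB = true ∧
      keyOK p k X Y LX LY TAB KEY = true ∧ candOK k KEY cands = true ∧
      combOK k cands comb = true ∧ search k KEY (fin comb) cands [] = true ∧
      fixOK p k X Y LX LY = true

theorem two_ne (hp : p.Prime) (hp2 : p ≠ 2) [CharP K p] : (2 : K) ≠ 0 := by
  intro h
  have := (CharP.cast_eq_zero_iff K p 2).mp (by exact_mod_cast h)
  exact hp2 ((Nat.prime_dvd_prime_iff_eq hp Nat.prime_two).mp this)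

theorem charP_card (hp : p.Prime) (hK : Nat.card K = p) : CharP K p := by
  have : Finite K := Nat.finite_of_card_ne_zero (hK ▸ hp.ne_zero)
  have := Fintype.ofFinite K
  have : Fact p.Prime := ⟨hp⟩
  exact charP_of_card_eq_prime (by rw [← hK, Nat.card_eq_fintype_card])

theorem exists_nat (hp : p.Prime) (hK : Nat.card K = p) [CharP K p] (e : K) :
    ∃ a, a < p ∧ e = (a : K) := by
  have : Finite K := Nat.finite_of_card_ne_zero (hK ▸ hp.ne_zero)
  have := Fintype.ofFinite K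
  have : Fact p.Prime := ⟨hp⟩
  obtain ⟨z, hz⟩ := (ZMod.castHom_bijective K (by rw [← hK, Nat.card_eq_fintype_card])).2 e
  refine ⟨z.val, ZMod.val_lt z, ?_⟩
  rw [← hz, ZMod.castHom_apply, ZMod.natCast_val]

theorem sig_zero (h2 : (2 : K) ≠ 0) {g : (Module.End K (Fin (2 ^ k) → K))ˣ}
    (hg : NormModel K tw k g) : sig h2 hg (zv _) = zv _ := by
  rw [← xr_self (zv (2 * k)), sig_xr, xr_self, xr_self]

theorem sig_xorL (h2 : (2 : K) ≠ 0) {g : (Module.End K (Fin (2 ^ k) → K))ˣ}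
    (hg : NormModel K tw k g) (f : Fin (2 * k) → Bool) : ∀ L : List (Fin (2 * k)),
    (sig h2 hg (xorL L f) : ℕ) =
      L.foldr (fun j acc => (if f j then (sig h2 hg (bv j) : ℕ) else 0) ^^^ acc) 0
  | [] => by simp [xorL, sig_zero h2 hg]; rfl
  | a :: L => by
    rw [xorL, sig_xr, List.foldr_cons, ← sig_xorL h2 hg f L]
    cases f a <;> simp only [Bool.false_eq_true, if_false, if_true, sig_zero h2 hg] <;> simp [xr, zv]

theorem exists_final (hp : p.Prime) (hp16 : p ≤ 16) (hK : Nat.card K = p) [CharP K p]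
    (h2 : (2 : K) ≠ 0) {X Y : ℕ} {fin : List (List (ℕ × ℕ)) → List (ℕ × ℕ) → Bool}
    (h : Good p tw k X Y fin) {g : (Module.End K (Fin (2 ^ k) → K))ˣ} (hg : NormModel K tw k g)
    (hx : (g : Module.End K (Fin (2 ^ k) → K)) (toV K k X) = toV K k X)
    (hy : (g : Module.End K (Fin (2 ^ k) → K)) (toV K k Y) = toV K k Y) :
    ∃ comb final, fin comb final = true ∧
      ∀ j : Fin (2 * k), sigImg comb final j = (sig h2 hg (bv j) : ℕ) := by
  obtain ⟨LX, LY, TAB, KEY, cands, comb, hX, hY, hT, hKEY, hcand, hcomb, hsearch, -⟩ := h.cert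
  obtain ⟨w, hw⟩ := quad_invariant (tw := tw) h2 hg hx hy
  let τ : ℕ → ℕ := fun m =>
    if hm : m < 2 ^ (2 * k) then (sig h2 hg (xr w ⟨m, hm⟩) : ℕ) else m
  have hτ : ∀ m (hm : m < 2 ^ (2 * k)),
      τ m = (sig h2 hg w : ℕ) ^^^ (sig h2 hg ⟨m, hm⟩ : ℕ) := fun m hm => by
    simp only [τ, dif_pos hm, sig_xr]
    rfl
  have hkey : ∀ m, m < 2 ^ (2 * k) → τ m < 2 ^ (2 * k) ∧ getK KEY (τ m) = getK KEY m := by
    intro m hm
    simp only [τ, dif_pos hm]
    refine ⟨Fin.isLt _, ?_⟩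
    obtain ⟨e, he, heq⟩ := hw (xr w ⟨m, hm⟩)
    rw [xr_cancel] at heq
    exact key_eq_of_quad hp hp16 (exists_nat hp hK) hX hY hT hKEY he heq
  have hlin : ∀ a b (ha : a < 2 ^ (2 * k)) (hb : b < 2 ^ (2 * k)),
      τ a ^^^ τ b = (sig h2 hg ⟨a ^^^ b, Nat.xor_lt_two_pow ha hb⟩ : ℕ) := fun a b ha hb => by
    rw [hτ a ha, hτ b hb, show (⟨a ^^^ b, Nat.xor_lt_two_pow ha hb⟩ : Fin (2 ^ (2 * k))) =
      xr ⟨a, ha⟩ ⟨b, hb⟩ from rfl, sig_xr]
    simp only [xr]
    rw [Nat.xor_assoc, ← Nat.xor_assoc _ (sig h2 hg w : ℕ), Nat.xor_comm _ (sig h2 hg w : ℕ),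
      Nat.xor_assoc, ← Nat.xor_assoc, Nat.xor_self, Nat.zero_xor]
  have htri : ∀ a b c, a < 2 ^ (2 * k) → b < 2 ^ (2 * k) → c < 2 ^ (2 * k) →
      τ (a ^^^ b ^^^ c) = τ a ^^^ τ b ^^^ τ c := by
    intro a b c ha hb hc
    rw [hlin a b ha hb, hτ _ (Nat.xor_lt_two_pow (Nat.xor_lt_two_pow ha hb) hc), hτ c hc,
      show (⟨a ^^^ b ^^^ c, Nat.xor_lt_two_pow (Nat.xor_lt_two_pow ha hb) hc⟩ : Fin (2 ^ (2 * k))) =
      xr ⟨a ^^^ b, Nat.xor_lt_two_pow ha hb⟩ ⟨c, hc⟩ from rfl, sig_xr]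
    simp only [xr]
    rw [← Nat.xor_assoc, Nat.xor_comm (sig h2 hg w : ℕ), Nat.xor_assoc]
  have hbeta : ∀ a b c, a < 2 ^ (2 * k) → b < 2 ^ (2 * k) → c < 2 ^ (2 * k) →
      betaB k (τ a ^^^ τ b) (τ a ^^^ τ c) = betaB k (a ^^^ b) (a ^^^ c) := by
    intro a b c ha hb hc
    rw [hlin a b ha hb, hlin a c ha hc]
    exact sig_beta h2 hg _ _
  obtain ⟨final, hfin, hval, hall⟩ :=
    search_sound τ hkey htri hbeta cands [] hcand (fun q hq => by simp at hq) hsearch
  refine ⟨comb, final, hfin, fun j => ?_⟩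
  simp only [combOK, List.all_eq_true, List.mem_range, Bool.and_eq_true, beq_iff_eq,
    List.contains_iff_mem] at hcomb
  obtain ⟨hsum, hin⟩ := hcomb j j.2
  simp only [candOK, List.all_eq_true, Bool.and_eq_true, decide_eq_true_eq] at hcand
  have hcl : ∀ b ∈ cands.map Prod.fst, b < 2 ^ (2 * k) := fun b hb => by
    obtain ⟨q, hq, rfl⟩ := List.mem_map.mp hb
    exact (hcand q hq).1
  have : ∀ P : List (ℕ × ℕ), (∀ q ∈ P, q.1 ∈ cands.map Prod.fst ∧ q.2 ∈ cands.map Prod.fst) →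
      ∃ hlt : P.foldr (fun q acc => q.1 ^^^ q.2 ^^^ acc) 0 < 2 ^ (2 * k),
        P.foldr (fun q acc => look final q.1 ^^^ look final q.2 ^^^ acc) 0 =
          (sig h2 hg ⟨_, hlt⟩ : ℕ) := by
    intro P
    induction P with
    | nil => exact fun _ => ⟨Nat.two_pow_pos _, by
        rw [show (⟨([] : List (ℕ × ℕ)).foldr (fun q acc => q.1 ^^^ q.2 ^^^ acc) 0, _⟩ :
          Fin (2 ^ (2 * k))) = zv _ from rfl, sig_zero]
        rfl⟩
    | cons q P ih =>
      intro hP
      obtain ⟨hlt, ih⟩ := ih fun r hr => hP r (List.mem_cons_of_mem _ hr)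
      obtain ⟨h1, h2'⟩ := hP q List.mem_cons_self
      refine ⟨Nat.xor_lt_two_pow (Nat.xor_lt_two_pow (hcl _ h1) (hcl _ h2')) hlt, ?_⟩
      simp only [List.foldr_cons]
      rw [look_eq hval (hall _ (Or.inr h1)), look_eq hval (hall _ (Or.inr h2')), ih,
        hlin _ _ (hcl _ h1) (hcl _ h2')]
      exact (congrArg Fin.val (sig_xr h2 hg
        ⟨q.1 ^^^ q.2, Nat.xor_lt_two_pow (hcl _ h1) (hcl _ h2')⟩ ⟨_, hlt⟩)).symm
  obtain ⟨hlt, e⟩ := this (comb.getD j []) hin
  rw [sigImg, e]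
  congr 2
  exact Fin.ext hsum

theorem eq_one_of_sig_id (hp : p.Prime) (hp16 : p ≤ 16) (hK : Nat.card K = p) [CharP K p]
    (h2 : (2 : K) ≠ 0) {X Y : ℕ} {fin : List (List (ℕ × ℕ)) → List (ℕ × ℕ) → Bool}
    (h : Good p tw k X Y fin) {g : (Module.End K (Fin (2 ^ k) → K))ˣ} (hg : NormModel K tw k g)
    (hx : (g : Module.End K (Fin (2 ^ k) → K)) (toV K k X) = toV K k X)
    (hy : (g : Module.End K (Fin (2 ^ k) → K)) (toV K k Y) = toV K k Y)
    (hid : ∀ j, sig h2 hg (bv j) = bv j) : g = 1 := by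
  obtain ⟨LX, LY, TAB, KEY, cands, comb, hX, hY, -, -, -, -, -, hfix⟩ := h.cert
  obtain ⟨c, w, hc⟩ := eq_word_of_sig_id h2 hg hid
  obtain ⟨e, he, rfl⟩ := exists_nat hp hK c
  have key : ∀ U L, imgOK p tw k U L = true →
      (g : Module.End K (Fin (2 ^ k) → K)) (toV K k U) = toV K k U →
      ∀ b, b < 2 ^ k → e * getC (getI L w) b % p = getC U b % p := by
    intro U L hU hfixU b hb
    rw [hc, LinearMap.smul_apply, word_toV hp.pos hp16 hU] at hfixU
    have := congrFun hfixU ⟨b, hb⟩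
    simp only [toV, Pi.smul_apply, smul_eq_mul, ← Nat.cast_mul] at this
    exact (CharP.natCast_eq_natCast K p).mp this
  simp only [fixOK, List.all_eq_true, List.mem_range, Bool.or_eq_true, Bool.and_eq_true, beq_iff_eq,
    Bool.not_eq_true', List.all_eq_false, not_lt] at hfix
  have hg0 : (g : Module.End K (Fin (2 ^ k) → K)) ≠ 0 := g.ne_zero
  rcases hfix w w.2 e he with ((h0 | ⟨hw, he1⟩) | ⟨b, hb, hne⟩) | ⟨b, hb, hne⟩
  · exact absurd (by simp [hc, h0]) hg0
  · have hw' : w = zv _ := Fin.ext (by simp [zv, hw])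
    exact Units.ext (by rw [hc, hw', word_zero, he1]; simp)
  · simp [key X LX hX hx b hb] at hne
  · simp [key Y LY hY hy b hb] at hne

theorem exists_pair (hp : p.Prime) (hp2 : p ≠ 2) (hp16 : p ≤ 16) (hK : Nat.card K = p) {X Y : ℕ}
    (h : Good p tw k X Y (finId k)) :
    ∃ x y : Fin (2 ^ k) → K, ∀ g : (Module.End K (Fin (2 ^ k) → K))ˣ, NormModel K tw k g →
      (g : Module.End K (Fin (2 ^ k) → K)) x = x → (g : Module.End K (Fin (2 ^ k) → K)) y = y →
      g = 1 := by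
  have := charP_card hp hK
  refine ⟨toV K k X, toV K k Y, fun g hg hx hy => ?_⟩
  obtain ⟨comb, final, hfin, himg⟩ := exists_final hp hp16 hK (two_ne hp hp2) h hg hx hy
  refine eq_one_of_sig_id hp hp16 hK (two_ne hp hp2) h hg hx hy fun j => Fin.ext ?_
  simp only [finId, List.all_eq_true, List.mem_range, beq_iff_eq] at hfin
  rw [← himg j, hfin j j.2]
  rfl

theorem sigN_eq (h2 : (2 : K) ≠ 0) {g : (Module.End K (Fin (2 ^ k) → K))ˣ}
    (hg : NormModel K tw k g) {comb : List (List (ℕ × ℕ))} {final : List (ℕ × ℕ)}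
    (himg : ∀ j : Fin (2 * k), sigImg comb final j = (sig h2 hg (bv j) : ℕ))
    (n : Fin (2 ^ (2 * k))) : sigN k comb final n = (sig h2 hg n : ℕ) := by
  conv_rhs => rw [← xorL_finRange n, sig_xorL]
  rw [sigN, range_eq_map, List.foldr_map]
  simp only [himg]

theorem exists_pair_invol (hp : p.Prime) (hp2 : p ≠ 2) (hp16 : p ≤ 16) (hK : Nat.card K = p)
    {X Y : ℕ} (h : Good p tw k X Y (finInvol k)) :
    ∃ x y : Fin (2 ^ k) → K, ∀ g : (Module.End K (Fin (2 ^ k) → K))ˣ, NormModel K tw k g →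
      (g : Module.End K (Fin (2 ^ k) → K)) x = x → (g : Module.End K (Fin (2 ^ k) → K)) y = y →
      g = 1 ∨ (g * g = 1 ∧ Nat.card {n : Fin (2 ^ (2 * k)) // ∃ c : K,
        (g : Module.End K (Fin (2 ^ k) → K)) * word K tw k n =
          c • (word K tw k n * (g : Module.End K (Fin (2 ^ k) → K)))} = 16) := by
  classical
  have := charP_card hp hK
  have h2 : (2 : K) ≠ 0 := two_ne hp hp2
  refine ⟨toV K k X, toV K k Y, fun g hg hx hy => ?_⟩
  obtain ⟨comb, final, hfin, himg⟩ := exists_final hp hp16 hK h2 h hg hx hy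
  simp only [finInvol, finId, Bool.or_eq_true, Bool.and_eq_true, List.all_eq_true, List.mem_range,
    beq_iff_eq] at hfin
  rcases hfin with hid | ⟨hsq, hcount⟩
  · exact Or.inl (eq_one_of_sig_id hp hp16 hK h2 h hg hx hy fun j => Fin.ext (by
      rw [← himg j, hid j j.2]; rfl))
  refine Or.inr ⟨?_, ?_⟩
  · have hg2 : NormModel K tw k (g * g) := fun j => by
      obtain ⟨n, c, hc⟩ := hg j
      obtain ⟨d, _, hd⟩ := sig_spec h2 hg n
      exact ⟨sig h2 hg n, c * d, by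
        rw [Units.val_mul, mul_assoc, hc, mul_smul_comm, ← mul_assoc, hd, smul_mul_assoc, smul_smul,
          mul_assoc]⟩
    have hfix : ∀ v, (g : Module.End K (Fin (2 ^ k) → K)) v = v →
        ((g * g : (Module.End K (Fin (2 ^ k) → K))ˣ) : Module.End K (Fin (2 ^ k) → K)) v = v := by
      intro v hv
      rw [Units.val_mul, Module.End.mul_apply, hv, hv]
    refine eq_one_of_sig_id hp hp16 hK h2 h hg2 (hfix _ hx) (hfix _ hy) fun j => ?_
    obtain ⟨c, _, hc⟩ := sig_spec h2 hg (bv j)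
    obtain ⟨d, _, hd⟩ := sig_spec h2 hg (sig h2 hg (bv j))
    have hinv : sig h2 hg (sig h2 hg (bv j)) = bv j := Fin.ext (by
      rw [← sigN_eq h2 hg himg, ← himg j, hsq j j.2]; rfl)
    refine sig_unique h2 hg2 (c := c * d) ?_
    rw [hinv] at hd
    rw [Units.val_mul, mul_assoc, hc, mul_smul_comm, ← mul_assoc, hd, smul_mul_assoc, smul_smul,
      mul_assoc]
  · have hset : (Finset.univ.filter fun n : Fin (2 ^ (2 * k)) => ∃ c : K,
        (g : Module.End K (Fin (2 ^ k) → K)) * word K tw k n =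
          c • (word K tw k n * (g : Module.End K (Fin (2 ^ k) → K)))) =
        Finset.univ.filter fun n : Fin (2 ^ (2 * k)) => sigN k comb final n = n := by
      ext n
      simp only [Finset.mem_filter, Finset.mem_univ, true_and, sigN_eq h2 hg himg, ← Fin.ext_iff]
      constructor
      · rintro ⟨c, hc⟩
        exact sig_unique h2 hg hc
      · intro hn
        obtain ⟨c, _, hc⟩ := sig_spec h2 hg n
        exact ⟨c, by rw [hn] at hc; exact hc⟩
    rw [Nat.card_eq_fintype_card, Fintype.card_subtype, hset, ← hcount]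
    have e : (Finset.univ.filter fun n : Fin (2 ^ (2 * k)) => sigN k comb final n = n).map
        Fin.valEmbedding = (Finset.range (2 ^ (2 * k))).filter fun n => sigN k comb final n = n := by
      ext m
      simp only [Finset.mem_map, Finset.mem_filter, Finset.mem_univ, true_and,
        Fin.valEmbedding_apply, Finset.mem_range]
      constructor
      · rintro ⟨a, ha, rfl⟩
        exact ⟨a.2, ha⟩
      · rintro ⟨hm, he⟩
        exact ⟨⟨m, hm⟩, he, rfl⟩
    rw [← Finset.card_map, e, ← List.toFinset_card_of_nodup (List.Nodup.filter _ List.nodup_range)]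
    congr 1
    ext m
    simp

end H15.BaseCert
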