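import Cfsg.Agent.H15.BaseCert.Alg

/-!
Normalisers of the Pauli models fixing two vectors: the induced affine symplectic map preserves the
projective fingerprint of the pair.
-/

set_option autoImplicit false
set_option maxHeartbeats 1000000

namespace H15.BaseCert

open H27.Base2

variable {K : Type} [Field K] {tw : Bool} {k : ℕ}

local notation "E" => Module.End K (Fin (2 ^ k) → K)
local notation "eg" => gen K tw k
local notation "wd" => word K tw k

/-- The standard bilinear form. -/
def dot {k : ℕ} (u v : Fin (2 ^ k) → K) : K := ∑ b, u b * v b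

theorem dot_smul_left (c : K) (u v : Fin (2 ^ k) → K) : dot (c • u) v = c * dot u v := by
  simp [dot, Finset.mul_sum, mul_assoc]

theorem dot_smul_right (c : K) (u v : Fin (2 ^ k) → K) : dot u (c • v) = c * dot u v := by
  simp [dot, Finset.mul_sum, mul_left_comm]

theorem dot_add_right (u v w : Fin (2 ^ k) → K) : dot u (v + w) = dot u v + dot u w := by
  simp [dot, mul_add, Finset.sum_add_distrib]

theorem dot_add_left (u v w : Fin (2 ^ k) → K) : dot (u + v) w = dot u w + dot v w := by
  simp [dot, add_mul, Finset.sum_add_distrib]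

theorem dot_single (b : Fin (2 ^ k)) (v : Fin (2 ^ k) → K) : dot (Pi.single b 1) v = v b := by
  simp [dot, Pi.single_apply]

theorem eq_of_dot {v w : Fin (2 ^ k) → K} (h : ∀ u, dot u v = dot u w) : v = w :=
  funext fun b => by simpa [dot_single] using h (Pi.single b 1)

theorem sum_flip {i : ℕ} (hi : i < k) (f : Fin (2 ^ k) → K) :
    ∑ b, f (flipBit i hi b) = ∑ b, f b :=
  Fintype.sum_equiv (Function.Involutive.toPerm _ (flipBit_flipBit hi)) _ _ (fun _ => rfl)

theorem dot_gen (h2 : (2 : K) ≠ 0) (j : Fin (2 * k)) :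
    ∃ c : K, c ≠ 0 ∧ ∀ u v, dot (eg j u) (eg j v) = c * dot u v := by
  have hlt : (j : ℕ) / 2 < k := Nat.div_lt_of_lt_mul j.2
  by_cases ht : (tw && (j : ℕ) / 2 == 0) = true
  · by_cases he : (j : ℕ) % 2 = 0
    · refine ⟨1, one_ne_zero, fun u v => ?_⟩
      rw [one_mul]
      unfold dot
      rw [← sum_flip hlt (fun b => u b * v b)]
      refine Finset.sum_congr rfl fun b _ => ?_
      cases hb : Nat.testBit b ((j : ℕ) / 2) <;> simp [gen, genFun, ht, he, hb]
    · refine ⟨2, h2, fun u v => ?_⟩
      unfold dot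
      set T := ∑ b, eg j u b * eg j v b with hT
      have h1 : T + T = ∑ b, (eg j u b * eg j v b +
          eg j u (flipBit _ hlt b) * eg j v (flipBit _ hlt b)) := by
        rw [Finset.sum_add_distrib, sum_flip hlt (fun b => eg j u b * eg j v b)]
      have h3 : ∀ b, eg j u b * eg j v b + eg j u (flipBit _ hlt b) * eg j v (flipBit _ hlt b) =
          2 * (u b * v b + u (flipBit _ hlt b) * v (flipBit _ hlt b)) := by
        intro b
        cases hb : Nat.testBit b ((j : ℕ) / 2) <;>
          simp [gen, genFun, ht, he, hb, flipBit_flipBit, testBit_flipBit] <;> ring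
      rw [Finset.sum_congr rfl (fun b _ => h3 b), ← Finset.mul_sum, Finset.sum_add_distrib,
        sum_flip hlt (fun b => u b * v b)] at h1
      refine mul_left_cancel₀ h2 ?_
      linear_combination h1
  · refine ⟨1, one_ne_zero, fun u v => ?_⟩
    rw [one_mul]
    unfold dot
    by_cases he : (j : ℕ) % 2 = 0
    · rw [← sum_flip hlt (fun b => u b * v b)]
      exact Finset.sum_congr rfl fun b _ => by simp [gen, genFun, ht, he]
    · exact Finset.sum_congr rfl fun b _ => by
        cases hb : Nat.testBit b ((j : ℕ) / 2) <;> simp [gen, genFun, ht, he, hb]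

theorem dot_wordL (h2 : (2 : K) ≠ 0) (f : Fin (2 * k) → Bool) :
    ∀ L : List (Fin (2 * k)), ∃ c : K, c ≠ 0 ∧
      ∀ u v, dot (wordL K tw k L f u) (wordL K tw k L f v) = c * dot u v := by
  intro L
  induction L with
  | nil => exact ⟨1, one_ne_zero, fun u v => by simp [wordL]⟩
  | cons a L ih =>
    obtain ⟨c, hc0, hc⟩ := ih
    cases hfa : f a
    · exact ⟨c, hc0, fun u v => by simpa [wordL_cons, hfa] using hc u v⟩
    · obtain ⟨d, hd0, hd⟩ := dot_gen (K := K) (tw := tw) h2 a
      exact ⟨d * c, mul_ne_zero hd0 hc0, fun u v => by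
        simp [wordL_cons, hfa, hd, hc, mul_assoc]⟩

theorem dot_word (h2 : (2 : K) ≠ 0) (n : Fin (2 ^ (2 * k))) :
    ∃ c : K, c ≠ 0 ∧ ∀ u v, dot (wd n u) (wd n v) = c * dot u v := by
  rw [word_eq]
  exact dot_wordL h2 _ _

theorem gen_left_cancel (h2 : (2 : K) ≠ 0) (j : Fin (2 * k)) {A B : E} (h : eg j * A = eg j * B) :
    A = B := by
  obtain ⟨c, hc0, hc⟩ := gen_sq (K := K) (tw := tw) h2 j
  have := congrArg (fun C => c⁻¹ • (eg j * C)) h
  simpa [← mul_assoc, hc, smul_smul, inv_mul_cancel₀ hc0] using this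

/-- The plain flip operator. -/
def flipOp (i : ℕ) (hi : i < k) : E where
  toFun v b := v (flipBit i hi b)
  map_add' _ _ := rfl
  map_smul' _ _ := rfl

/-- The plain sign operator. -/
def signOp (i : ℕ) : E where
  toFun v b := if Nat.testBit b i then -v b else v b
  map_add' v w := funext fun b => by simp only [Pi.add_apply]; split_ifs <;> ring
  map_smul' c v := funext fun b => by
    simp only [Pi.smul_apply, smul_eq_mul, RingHom.id_apply]; split_ifs <;> ring

theorem commute_plain (h2 : (2 : K) ≠ 0) {M : E} (hM : ∀ j, Commute M (eg j)) (i : ℕ) (hi : i < k) :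
    Commute M (flipOp i hi) ∧ Commute M (signOp i) := by
  let a : Fin (2 * k) := ⟨2 * i, by omega⟩
  let b : Fin (2 * k) := ⟨2 * i + 1, by omega⟩
  have ha : (a : ℕ) / 2 = i := by simp only [a]; omega
  have hb : (b : ℕ) / 2 = i := by simp only [b]; omega
  have ha' : (a : ℕ) % 2 = 0 := by simp only [a]; omega
  have hb' : ¬(b : ℕ) % 2 = 0 := by simp only [b]; omega
  by_cases ht : (tw && i == 0) = true
  · have hA : Commute M ((2 : K)⁻¹ • (eg b + eg a * eg b)) :=
      ((hM b).add_right ((hM a).mul_right (hM b))).smul_right _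
    have hB : Commute M ((2 : K)⁻¹ • (eg b - eg a * eg b)) :=
      ((hM b).sub_right ((hM a).mul_right (hM b))).smul_right _
    have e1 : ((2 : K)⁻¹ • (eg b + eg a * eg b) : E) = flipOp i hi := by
      refine LinearMap.ext fun v => funext fun c => ?_
      cases hc : Nat.testBit c i <;>
        simp [gen, genFun, flipOp, ha, hb, ha', hb', ht, hc, flipBit_flipBit, testBit_flipBit] <;>
        field_simp <;> ring
    have e2 : ((2 : K)⁻¹ • (eg b - eg a * eg b) : E) = signOp i := by
      refine LinearMap.ext fun v => funext fun c => ?_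
      cases hc : Nat.testBit c i <;>
        simp [gen, genFun, signOp, ha, hb, ha', hb', ht, hc, flipBit_flipBit, testBit_flipBit] <;>
        field_simp <;> ring
    exact ⟨e1 ▸ hA, e2 ▸ hB⟩
  · have e1 : eg a = flipOp i hi := by
      refine LinearMap.ext fun v => funext fun c => ?_
      simp [gen, genFun, flipOp, ha, ha', ht]
    have e2 : eg b = signOp i := by
      refine LinearMap.ext fun v => funext fun c => ?_
      simp [gen, genFun, signOp, hb, hb', ht]
    exact ⟨e1 ▸ hM a, e2 ▸ hM b⟩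

theorem commutant_scalar (h2 : (2 : K) ≠ 0) {M : E} (hM : ∀ j, Commute M (eg j)) :
    ∃ c : K, M = c • 1 := by
  have hX : ∀ i (hi : i < k) (v : Fin (2 ^ k) → K) (b : Fin (2 ^ k)),
      M (flipOp i hi v) b = M v (flipBit i hi b) := fun i hi v b =>
    congrFun (LinearMap.congr_fun (commute_plain h2 hM i hi).1.eq v) b
  have hZ : ∀ i, i < k → ∀ (v : Fin (2 ^ k) → K) (b : Fin (2 ^ k)),
      M (signOp i v) b = if Nat.testBit b i then -M v b else M v b := fun i hi v b =>
    congrFun (LinearMap.congr_fun (commute_plain h2 hM i hi).2.eq v) b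
  set d : Fin (2 ^ k) → K := fun b => M (Pi.single b 1) b with hd
  have hoff : ∀ b b' : Fin (2 ^ k), b ≠ b' → M (Pi.single b 1) b' = 0 := by
    intro b b' hne
    obtain ⟨i, hi⟩ : ∃ i : Fin k, Nat.testBit b i ≠ Nat.testBit b' i := by
      by_contra h
      push_neg at h
      exact hne (bits_ext h)
    have hs : signOp (K := K) (k := k) i (Pi.single b 1) =
        (if Nat.testBit b i then (-1 : K) else 1) • Pi.single b 1 := by
      funext c
      rcases eq_or_ne c b with rfl | hc
      · cases hcb : Nat.testBit c i <;> simp [signOp, hcb]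
      · simp [signOp, hc]
    have h := hZ i i.2 (Pi.single b 1) b'
    rw [hs, map_smul] at h
    have key : (2 : K) * M (Pi.single b 1) b' = 0 := by
      cases hb : Nat.testBit b i <;> cases hb' : Nat.testBit b' i <;> simp [hb, hb'] at h hi
      · linear_combination h
      · linear_combination -h
    exact (mul_eq_zero.mp key).resolve_left h2
  have hflip : ∀ i (hi : i < k) b, d (flipBit i hi b) = d b := by
    intro i hi b
    have hs : flipOp (K := K) i hi (Pi.single b 1) = Pi.single (flipBit i hi b) 1 := by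
      funext c
      rcases eq_or_ne c (flipBit i hi b) with rfl | hc
      · simp [flipOp, flipBit_flipBit]
      · have : flipBit i hi c ≠ b := fun h => hc (by rw [← h, flipBit_flipBit])
        simp [flipOp, this, hc]
    have h := hX i hi (Pi.single b 1) (flipBit i hi b)
    rw [hs, flipBit_flipBit] at h
    exact h
  have hconst : ∀ n (b : Fin (2 ^ k)), (b : ℕ) = n → d b = d (zv k) := by
    intro n
    induction n using Nat.strong_induction_on with
    | _ n ih =>
      intro b hb
      rcases eq_or_ne n 0 with h0 | h0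
      · congr 1; exact Fin.ext (by simp [zv, hb, h0])
      · have hi : Nat.log2 n < k := by
          rw [Nat.log2_lt h0, ← hb]
          exact b.2
        rw [← hflip _ hi b]
        refine ih _ ?_ _ rfl
        have ht : Nat.testBit n (Nat.log2 n) = true := by
          exact Nat.testBit_log2 h0
        simp only [flipBit, hb]
        refine Nat.lt_of_testBit (Nat.log2 n) ?_ ht ?_
        · simp [ht, Nat.testBit_two_pow]
        · intro j hj
          simp [Nat.testBit_two_pow, hj.ne]
  refine ⟨d (zv k), (Pi.basisFun K (Fin (2 ^ k))).ext fun b => funext fun b' => ?_⟩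
  rw [Pi.basisFun_apply]
  rcases eq_or_ne b b' with rfl | hne
  · simpa using hconst _ b rfl
  · simp [hoff b b' hne, hne, Ne.symm hne]

theorem sign_of_twist (h2 : (2 : K) ≠ 0) {M : E} (hM : M ≠ 0) {j : Fin (2 * k)} {d : K}
    (h : M * eg j = d • (eg j * M)) : ∃ s : Bool, d = sg K s := by
  obtain ⟨c, hc0, hc⟩ := gen_sq (K := K) (tw := tw) h2 j
  have h2' : c • M = (d * d * c) • M := by
    calc c • M = M * (eg j * eg j) := by rw [hc, mul_smul_comm, mul_one]
      _ = d • (eg j * (M * eg j)) := by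
        conv_lhs => rw [← mul_assoc, h, smul_mul_assoc, mul_assoc]
      _ = (d * d * c) • M := by
        rw [h, mul_smul_comm, ← mul_assoc, hc, smul_mul_assoc, one_mul, smul_smul, smul_smul]
  have : (d * d - 1) * c = 0 := by
    have := smul_left_injective K hM h2'
    linear_combination -this
  have hd : d * d = 1 := by
    have := (mul_eq_zero.mp this).resolve_right hc0
    linear_combination this
  rcases mul_self_eq_one_iff.mp hd with rfl | rfl
  · exact ⟨false, rfl⟩
  · exact ⟨true, rfl⟩

theorem eq_word_of_twist (h2 : (2 : K) ≠ 0) {M : E} (hM : M ≠ 0)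
    (h : ∀ j, ∃ d : K, M * eg j = d • (eg j * M)) :
    ∃ (c : K) (w : Fin (2 ^ (2 * k))), M = c • wd w := by
  choose d hd using h
  choose s hs using fun j => sign_of_twist h2 hM (hd j)
  set w := xorL (List.finRange (2 * k)) (fun i => s (partner i)) with hw
  have hc : ∀ j, Commute (wd w * M) (eg j) := by
    intro j
    have hbit : Nat.testBit w (partner j) = s j := by
      rw [hw, testBit_xorL _ _ _ (List.nodup_finRange _)]
      simp [partner_partner]
    unfold Commute SemiconjBy
    rw [mul_assoc, hd j, hs j, mul_smul_comm, ← mul_assoc, ← mul_assoc, gen_mul_word j w, hbit,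
      smul_mul_assoc]
  obtain ⟨c, hc⟩ := commutant_scalar h2 hc
  obtain ⟨e, he0, he⟩ := word_sq (K := K) (tw := tw) h2 w
  refine ⟨e⁻¹ * c, w, ?_⟩
  have := congrArg (fun C => e⁻¹ • (wd w * C)) hc
  simpa [← mul_assoc, he, smul_smul, inv_mul_cancel₀ he0] using this

theorem unit_gen_ne (h2 : (2 : K) ≠ 0) (g : Eˣ) (j : Fin (2 * k)) : (g : E) * eg j ≠ 0 := by
  intro h
  obtain ⟨c, hc0, hc⟩ := gen_sq (K := K) (tw := tw) h2 j
  have h1 := congrArg (fun C : E => (↑g⁻¹ : E) * C * eg j) h
  simp [mul_assoc, hc, hc0] at h1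

theorem exists_image (h2 : (2 : K) ≠ 0) {g : Eˣ} (hg : NormModel K tw k g)
    (n : Fin (2 ^ (2 * k))) :
    ∃ (m : Fin (2 ^ (2 * k))) (c : K), c ≠ 0 ∧ (g : E) * wd n = c • (wd m * (g : E)) := by
  rw [word_eq]
  generalize List.finRange (2 * k) = L
  induction L with
  | nil => exact ⟨zv _, 1, one_ne_zero, by simp [wordL, word_zero]⟩
  | cons a L ih =>
    obtain ⟨m, c, hc0, hc⟩ := ih
    rw [wordL_cons]
    cases hfa : Nat.testBit n a
    · exact ⟨m, c, hc0, by simpa using hc⟩
    · obtain ⟨na, ca, hca⟩ := hg a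
      have hca0 : ca ≠ 0 := by
        rintro rfl
        exact unit_gen_ne h2 g a (by simpa using hca)
      obtain ⟨e, he0, he⟩ := word_mul (K := K) (tw := tw) h2 na m
      refine ⟨xr na m, ca * c * e, mul_ne_zero (mul_ne_zero hca0 hc0) he0, ?_⟩
      simp only [if_true]
      rw [← mul_assoc, hca, smul_mul_assoc, mul_assoc, hc, mul_smul_comm, ← mul_assoc, he,
        smul_mul_assoc, smul_smul, smul_smul]

/-- The permutation of the words induced by a normalising map. -/
noncomputable def sig (h2 : (2 : K) ≠ 0) {g : Eˣ} (hg : NormModel K tw k g)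
    (n : Fin (2 ^ (2 * k))) : Fin (2 ^ (2 * k)) :=
  (exists_image h2 hg n).choose

theorem sig_spec (h2 : (2 : K) ≠ 0) {g : Eˣ} (hg : NormModel K tw k g) (n : Fin (2 ^ (2 * k))) :
    ∃ c : K, c ≠ 0 ∧ (g : E) * wd n = c • (wd (sig h2 hg n) * (g : E)) :=
  (exists_image h2 hg n).choose_spec

theorem sig_unique (h2 : (2 : K) ≠ 0) {g : Eˣ} (hg : NormModel K tw k g) {n m : Fin (2 ^ (2 * k))}
    {c : K} (h : (g : E) * wd n = c • (wd m * (g : E))) : sig h2 hg n = m := by
  obtain ⟨d, hd0, hd⟩ := sig_spec h2 hg n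
  have h1 : (d⁻¹ * c) • wd m * (g : E) = wd (sig h2 hg n) * (g : E) := by
    rw [smul_mul_assoc, mul_smul, ← h, hd, smul_smul, inv_mul_cancel₀ hd0, one_smul]
  exact (word_smul_inj h2 (g.mul_left_inj.mp h1).symm).symm

theorem sig_xr (h2 : (2 : K) ≠ 0) {g : Eˣ} (hg : NormModel K tw k g)
    (a b : Fin (2 ^ (2 * k))) : sig h2 hg (xr a b) = xr (sig h2 hg a) (sig h2 hg b) := by
  obtain ⟨c, hc0, hc⟩ := sig_spec h2 hg a
  obtain ⟨d, hd0, hd⟩ := sig_spec h2 hg b
  obtain ⟨e, he0, he⟩ := word_mul (K := K) (tw := tw) h2 a b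
  obtain ⟨f, hf0, hf⟩ := word_mul (K := K) (tw := tw) h2 (sig h2 hg a) (sig h2 hg b)
  refine sig_unique h2 hg (c := e⁻¹ * (c * (d * f))) ?_
  have : wd (xr a b) = e⁻¹ • (wd a * wd b) := by rw [he, smul_smul, inv_mul_cancel₀ he0, one_smul]
  rw [this, mul_smul_comm, ← mul_assoc, hc, smul_mul_assoc, mul_assoc, hd, mul_smul_comm,
    ← mul_assoc, hf, smul_mul_assoc, smul_smul, smul_smul, smul_smul]
  congr 1
  ring

theorem sig_beta (h2 : (2 : K) ≠ 0) {g : Eˣ} (hg : NormModel K tw k g)
    (a b : Fin (2 ^ (2 * k))) :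
    betaB k (sig h2 hg a) (sig h2 hg b) = betaB k (a : ℕ) b := by
  obtain ⟨c, hc0, hc⟩ := sig_spec h2 hg a
  obtain ⟨d, hd0, hd⟩ := sig_spec h2 hg b
  set A := wd (sig h2 hg a) with hA
  set B := wd (sig h2 hg b) with hB
  have h1 : (g : E) * (wd b * wd a) = (d * c) • (B * A * (g : E)) := by
    rw [← mul_assoc, hd, smul_mul_assoc, mul_assoc, hc, mul_smul_comm, smul_smul, mul_assoc]
  have h3 : (g : E) * (wd a * wd b) = (c * d) • (A * B * (g : E)) := by
    rw [← mul_assoc, hc, smul_mul_assoc, mul_assoc, hd, mul_smul_comm, smul_smul, mul_assoc]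
  have h4 : B * A = sg K (betaB k (sig h2 hg a) (sig h2 hg b)) • (A * B) := word_comm _ _
  rw [word_comm a b, mul_smul_comm, h3, smul_smul, h4, smul_mul_assoc, smul_smul] at h1
  have hne : A * B * (g : E) ≠ 0 := by
    intro h
    have h' : A * B = 0 := by
      have := congrArg (fun C : E => C * (↑g⁻¹ : E)) h
      simpa using this
    obtain ⟨e, he0, he⟩ := word_mul (K := K) (tw := tw) h2 (sig h2 hg a) (sig h2 hg b)
    rw [← hA, ← hB, h'] at he
    exact word_ne_zero h2 _ ((smul_eq_zero.mp he.symm).resolve_left he0)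
  have h5 := smul_left_injective K hne h1
  refine sg_inj h2 (mul_left_cancel₀ (mul_ne_zero hc0 hd0) ?_)
  linear_combination -h5

theorem adjoint_word (h2 : (2 : K) ≠ 0) {g : Eˣ} (hg : NormModel K tw k g) :
    ∃ (l : K) (w : Fin (2 ^ (2 * k))), l ≠ 0 ∧
      ∀ u v, dot ((g : E) u) ((g : E) v) = l * dot u (wd w v) := by
  let M : E :=
    { toFun := fun v b => dot ((g : E) (Pi.single b 1)) ((g : E) v)
      map_add' := fun v w => funext fun b => by simp [dot_add_right]
      map_smul' := fun c v => funext fun b => by simp [dot_smul_right] }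
  have hM : ∀ u v, dot ((g : E) u) ((g : E) v) = dot u (M v) := by
    intro u v
    conv_lhs => rw [pi_eq_sum_univ u]
    simp only [dot, map_sum, map_smul, Finset.sum_apply, Pi.smul_apply, smul_eq_mul,
      Finset.sum_mul, M, LinearMap.coe_mk, AddHom.coe_mk]
    rw [Finset.sum_comm]
    refine Finset.sum_congr rfl fun b _ => ?_
    rw [Finset.mul_sum]
    refine Finset.sum_congr rfl fun c _ => ?_
    rw [mul_assoc, show (fun j => if b = j then (1 : K) else 0) = Pi.single b 1 from
      funext fun i => by simp [Pi.single_apply, eq_comm]]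
  have hM0 : M ≠ 0 := by
    intro h
    have hg1 : ∀ b : Fin (2 ^ k), dot (Pi.single b (1 : K)) (Pi.single b 1) = 0 := by
      intro b
      have e := hM ((↑g⁻¹ : E) (Pi.single b 1)) ((↑g⁻¹ : E) (Pi.single b 1))
      have hinv : ∀ x, (g : E) ((↑g⁻¹ : E) x) = x := fun x => by
        rw [← Module.End.mul_apply, ← Units.val_mul, mul_inv_cancel]; rfl
      rw [hinv, h] at e
      simpa [dot] using e
    simpa [dot_single] using hg1 (zv k)
  obtain ⟨l, w, hlw⟩ := eq_word_of_twist (tw := tw) h2 hM0 (fun j => by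
    obtain ⟨m, c, hc⟩ := hg j
    obtain ⟨cw, hcw0, hcw⟩ := dot_word (K := K) (tw := tw) h2 m
    obtain ⟨ce, hce0, hce⟩ := dot_gen (K := K) (tw := tw) h2 j
    refine ⟨ce⁻¹ * (c * c * cw), LinearMap.ext fun v => eq_of_dot fun u => ?_⟩
    obtain ⟨e, he0, he⟩ := gen_sq (K := K) (tw := tw) h2 j
    set u' := e⁻¹ • eg j u with hu'
    have hu : u = eg j u' := by
      rw [hu', map_smul, ← Module.End.mul_apply, he]
      simp [smul_smul, inv_mul_cancel₀ he0]
    have hcv : ∀ x, (g : E) (eg j x) = c • wd m ((g : E) x) := fun x => by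
      rw [← Module.End.mul_apply, hc]; rfl
    rw [hu, LinearMap.smul_apply, Module.End.mul_apply, Module.End.mul_apply, ← hM, hcv, hcv,
      dot_smul_left, dot_smul_right, hcw, dot_smul_right, hce, hM]
    field_simp)
  refine ⟨l, w, ?_, fun u v => by rw [hM, hlw, LinearMap.smul_apply, dot_smul_right]⟩
  rintro rfl
  exact hM0 (by simpa using hlw)

/-- The quadruple attached to a word. -/
def quad (K : Type) [Field K] (tw : Bool) (k : ℕ) (x y : Fin (2 ^ k) → K)
    (n : Fin (2 ^ (2 * k))) : K × K × K × K :=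
  (dot x (word K tw k n x), dot x (word K tw k n y), dot y (word K tw k n y),
    dot y (word K tw k n x))

theorem quad_invariant (h2 : (2 : K) ≠ 0) {g : Eˣ} (hg : NormModel K tw k g)
    {x y : Fin (2 ^ k) → K} (hx : (g : E) x = x) (hy : (g : E) y = y) :
    ∃ w, ∀ n, ∃ e : K, e ≠ 0 ∧
      quad K tw k x y (sig h2 hg n) = e • quad K tw k x y (xr w n) := by
  obtain ⟨l, w, hl0, hl⟩ := adjoint_word h2 hg
  refine ⟨w, fun n => ?_⟩
  obtain ⟨c, hc0, hc⟩ := sig_spec h2 hg n
  obtain ⟨d, hd0, hd⟩ := word_mul (K := K) (tw := tw) h2 w n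
  refine ⟨c⁻¹ * (l * d), mul_ne_zero (inv_ne_zero hc0) (mul_ne_zero hl0 hd0), ?_⟩
  have key : ∀ u v, (g : E) u = u → (g : E) v = v →
      dot u (wd (sig h2 hg n) v) = c⁻¹ * (l * d) * dot u (wd (xr w n) v) := by
    intro u v hu hv
    have h1 : (g : E) (wd n v) = c • wd (sig h2 hg n) v := by
      rw [← Module.End.mul_apply, hc, LinearMap.smul_apply, Module.End.mul_apply, hv]
    have h3 := hl u (wd n v)
    rw [hu, h1, dot_smul_right, ← Module.End.mul_apply, hd, LinearMap.smul_apply,
      dot_smul_right] at h3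
    field_simp
    linear_combination h3
  simp only [quad, Prod.smul_mk, smul_eq_mul, key x x hx hx, key x y hx hy, key y y hy hy,
    key y x hy hx]

theorem eq_word_of_sig_id (h2 : (2 : K) ≠ 0) {g : Eˣ} (hg : NormModel K tw k g)
    (h : ∀ j, sig h2 hg (bv j) = bv j) :
    ∃ (c : K) (w : Fin (2 ^ (2 * k))), (g : E) = c • wd w := by
  refine eq_word_of_twist h2 g.ne_zero fun j => ?_
  obtain ⟨c, _, hc⟩ := sig_spec h2 hg (bv j)
  rw [h j] at hc
  obtain ⟨e, he0, he⟩ := word_mul_gen (K := K) (tw := tw) h2 (zv (2 * k)) j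
  rw [word_zero, one_mul, zero_xr] at he
  exact ⟨c, by rw [he, mul_smul_comm, hc, smul_mul_assoc, smul_smul, smul_smul, mul_comm]⟩

end H15.BaseCert
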